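import Cfsg.Agent.Lib.Grp.O8p2.D0

set_option autoImplicit false
set_option maxRecDepth 100000
set_option Elab.async false
set_option linter.unusedSectionVars false

namespace Cfsg.Agent.CG.O8p2

noncomputable def tabs : List ℕ := [t0,t1,t2,t3,t4,t5,t6,t7,t8,t9,t10,t11,t12,t13,t14,t15,t16,t17,t18,t19,t20,t21,t22,t23,t24,t25,t26,t27,t28,t29,t30,t31,t32,t33,t34,t35,t36,t37,t38,t39,t40,t41,t42,t43,t44,t45,t46,t47,t48,t49,t50,t51,t52,t53]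
noncomputable abbrev app : ℕ → ℕ → ℕ := appT tabs t54 0xfff
noncomputable def slpL : List (Bool × List ℕ) := [(false,[]),
  (false,[]),
  (false,[]),
  (false,[]),
  (false,[2,0]),
  (true,[4]),
  (false,[4,4]),
  (true,[6]),
  (false,[6,4]),
  (false,[3,3]),
  (true,[9]),
  (false,[9]),
  (true,[11]),
  (false,[2,2,1,3,10,2,1,10,3,9,1,8,0,10,2,9,0,3,9,2,0,3,3]),
  (false,[11,11,11,13,12]),
  (true,[14]),
  (false,[15,15,13]),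
  (true,[16]),
  (false,[15,15,12]),
  (true,[18]),
  (false,[11,15,16,19]),
  (true,[20]),
  (false,[17,17,13]),
  (true,[22]),
  (false,[11,14,13,19]),
  (true,[24]),
  (false,[22,24,20,24]),
  (true,[26]),
  (false,[22,24,22,21,21]),
  (true,[28]),
  (false,[28,27,29,27,28]),
  (true,[30]),
  (false,[29,27,27,29,26,28]),
  (true,[32]),
  (false,[26,26,29,26,28,27]),
  (true,[34]),
  (false,[35,30,32]),
  (true,[36]),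
  (false,[33,33]),
  (true,[38]),
  (false,[31,32,35,31]),
  (true,[40]),
  (false,[37,41]),
  (false,[37,39]),
  (false,[36,38,40,38]),
  (false,[43,44,42]),
  (false,[45]),
  (false,[42]),
  (false,[44,45]),
  (false,[36,44]),
  (false,[32,30,39,37,43]),
  (false,[28,28,26,30,30,36,36,43,45]),
  (false,[25,22,21,27,28,34,30,38,43]),
  (false,[11,18,11,22,22,29,26,26,33,31])]
noncomputable def slp (a : ℕ) : Bool × List ℕ := nth slpL (false, []) a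
noncomputable def invL : List ℕ := [1,0,3,2,5,4,7,6,8,10,9,12,11,13,15,14,17,16,19,18,21,20,23,22,25,24,27,26,29,28,31,30,33,32,35,34,37,36,39,38,41,40,42,43,44,45,46,47,48,49,50,51,52,53]
noncomputable def inv (a : ℕ) : ℕ := nth invL 54 a
noncomputable def bs : List ℕ := [0,12,24,96,48,288,108]
noncomputable def mc0 : Lvl := ⟨0, [11,12,13,14,15,16,17,18,19], 120,
  fun i => look 0xfff mc0c (Nat.mul 12 i), fun i => look 0xff mc0p (Nat.mul 8 i),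
  fun i => look 0xff mc0l (Nat.mul 8 i), fun i => look 0xff mc0i (Nat.mul 8 i), fun x => look 0xfff mc0q x, 4⟩
noncomputable def mc1 : Lvl := ⟨12, [20,21,22,23,24,25], 63,
  fun i => look 0xfff mc1c (Nat.mul 12 i), fun i => look 0xff mc1p (Nat.mul 8 i),
  fun i => look 0xff mc1l (Nat.mul 8 i), fun i => look 0xff mc1i (Nat.mul 8 i), fun x => look 0xfff mc1q x, 4⟩
noncomputable def mc2 : Lvl := ⟨24, [26,27,28,29], 30,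
  fun i => look 0xfff mc2c (Nat.mul 12 i), fun i => look 0xff mc2p (Nat.mul 8 i),
  fun i => look 0xff mc2l (Nat.mul 8 i), fun i => look 0xff mc2i (Nat.mul 8 i), fun x => look 0xfff mc2q x, 3⟩
noncomputable def mc3 : Lvl := ⟨96, [30,31,32,33,34,35], 16,
  fun i => look 0xfff mc3c (Nat.mul 12 i), fun i => look 0xff mc3p (Nat.mul 8 i),
  fun i => look 0xff mc3l (Nat.mul 8 i), fun i => look 0xff mc3i (Nat.mul 8 i), fun x => look 0xfff mc3q x, 2⟩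
noncomputable def mc4 : Lvl := ⟨48, [36,37,38,39], 6,
  fun i => look 0xfff mc4c (Nat.mul 12 i), fun i => look 0xf mc4p (Nat.mul 4 i),
  fun i => look 0xff mc4l (Nat.mul 8 i), fun i => look 0xff mc4i (Nat.mul 8 i), fun x => look 0xfff mc4q x, 2⟩
noncomputable def mc5 : Lvl := ⟨288, [42,43,44], 4,
  fun i => look 0xfff mc5c (Nat.mul 12 i), fun i => look 0xf mc5p (Nat.mul 4 i),
  fun i => look 0xff mc5l (Nat.mul 8 i), fun i => look 0xff mc5i (Nat.mul 8 i), fun x => look 0xfff mc5q x, 1⟩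
noncomputable def mc6 : Lvl := ⟨108, [45], 2,
  fun i => look 0xfff mc6c (Nat.mul 12 i), fun i => look 0xf mc6p (Nat.mul 4 i),
  fun i => look 0xff mc6l (Nat.mul 8 i), fun i => look 0xff mc6i (Nat.mul 8 i), fun x => look 0xfff mc6q x, 1⟩
noncomputable def mc : List Lvl := [mc0, mc1, mc2, mc3, mc4, mc5, mc6]
noncomputable def tcR : List (List ℕ) := [[46,46],
  [47,47],
  [48,48],
  [47,46,47,46],
  [48,46,48,46],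
  [47,48,47,48],
  [49,49],
  [49,47,49,47],
  [49,48,49,48,49,48],
  [49,46,49,46,49,46,47],
  [50,50],
  [50,46,50,46],
  [50,47,50,47],
  [50,48,50,48],
  [50,49,50,49,50,49,50,49],
  [50,49,46,50,49,48,49,50,46,49,50,46,48,49,46,48],
  [51,51],
  [51,46,51,46],
  [51,48,51,48],
  [51,47,51,47,48],
  [51,50,51,48,50],
  [51,49,48,51,49,51,49,51,48,49],
  [51,49,51,50,49,51,50,49,51,50,49,48,50],
  [51,49,46,48,49,51,49,48,46,49,51,49,46,48,49],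
  [51,49,50,49,51,49,51,49,50,49,51,47,49,48,50,49],
  [51,49,50,49,46,49,50,49,51,47,49,46,50,49,46,50,49],
  [52,52],
  [52,46,52,46],
  [52,47,52,47],
  [52,48,52,48],
  [52,51,52,51],
  [52,49,52,49,52,47,49],
  [52,50,49,50,52,50,49,50],
  [52,50,52,50,52,50,52,50],
  [52,49,51,49,48,52,49,51,49,52,50,52,48,50,49,51,49,48],
  [53,53],
  [53,48,53,48],
  [53,49,53,49],
  [53,51,53,51],
  [53,46,53,46,47,50],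
  [53,52,50,52,53,47,53,52,50,52,53,46,47],
  [53,47,52,53,52,47,53,52,47,53,47,52],
  [53,52,49,53,52,53,52,53,49,52,53,46,47,50,49,50,52,49,46,50,52]]
noncomputable def tc0T : List ℕ := [0,0,0,0,0,0,0,0,0,0,0,0,0,0,0,0,0,0,0,0,0,0,0,0,0,0,0,0,0,0,0,0,0,0,0,0,0,0,0,0,0,0,0,0,0,0,tc0t46,tc0t47,tc0t48,tc0t49,tc0t50,tc0t51,tc0t52,tc0t53]
noncomputable def tc0r : Tr Rule := (.node (.node (.node (.node (.node (.node (.node (.node (.leaf ⟨53,[53],35,1⟩) (.leaf ⟨52,[46,52,46],27,0⟩)) (.leaf ⟨48,[51,47,51,47],19,4⟩)) (.node (.leaf ⟨51,[48,50,51,50],20,2⟩) (.leaf ⟨49,[52,49,52,49,52,47],31,6⟩))) (.node (.node (.leaf ⟨47,[52,47,52],28,3⟩) (.leaf ⟨50,[49,50,52,50,49,50,52],32,1⟩)) (.node (.leaf ⟨53,[48,53,48],36,2⟩) (.leaf ⟨51,[52,51,52],30,1⟩)))) (.node (.node (.node (.leaf ⟨46,[48,46,48],4,3⟩) (.leaf ⟨48,[47,48,47],5,1⟩)) (.node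 (.leaf ⟨47,[49,46,49,46,49,46],9,6⟩) (.leaf ⟨50,[52,48,50,49,51,49,48,52,49,51,49,48,52,49,51,49,52],34,10⟩))) (.node (.node (.leaf ⟨48,[46,48,46],4,2⟩) (.leaf ⟨49,[52,47,49,52,49,52],31,3⟩)) (.node (.leaf ⟨52,[46,52,46],27,2⟩) (.leaf ⟨53,[46,47,50,49,50,52,49,46,50,52,53,52,49,53,52,53,52,53,49,52],42,10⟩))))) (.node (.node (.node (.node (.leaf ⟨46,[46],0,1⟩) (.leaf ⟨46,[50,46,50],11,1⟩)) (.node (.leaf ⟨51,[49,48,51,49,51,49,51,48,49],21,0⟩) (.leaf ⟨51,[50,49,51,50,49,51,50,49,48,50,51,49],22,2⟩))) (.node (.node (.leaf ⟨48,[50,48,50],13,1⟩) (.leaf ⟨46,[49,46,49,46,47,49],9,1⟩)) (.node (.leaf ⟨50,[47,50,47],12,0⟩) (.leaf ⟨49,[50,49,51,47,49,48,50,49,51,49,50,49,51,49,51],24,7⟩)))) (.node (.node (.node (.leaf ⟨48,[51,48,51],18,3⟩) (.leaf ⟨52,[50,49,50,52,50,49,50],32,4⟩)) (.node (.leaf ⟨50,[53,46,53,46,47],39,5⟩) (.leaf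 ⟨52,[47,53,47,52,53,47,52,53,52,47,53],41,7⟩))) (.node (.node (.leaf ⟨49,[53,49,53],37,3⟩) (.leaf ⟨52,[47,52,47],28,0⟩)) (.node (.leaf ⟨49,[52,49,52,47,49,52],31,1⟩) (.leaf ⟨49,[53,52,53,52,53,49,52,53,46,47,50,49,50,52,49,46,50,52,53,52],42,2⟩)))))) (.node (.node (.node (.node (.node (.leaf ⟨49,[49],6,1⟩) (.leaf ⟨53,[48,53,48],36,0⟩)) (.node (.leaf ⟨51,[47,48,51,47],19,2⟩) (.leaf ⟨49,[51,49,52,50,52,48,50,49,51,49,48,52,49,51,49,48,52],34,6⟩))) (.node (.node (.leaf ⟨50,[51,48,50,51],20,1⟩) (.leaf ⟨50,[52,50,49,50,52,50,49],32,7⟩)) (.node (.leaf ⟨47,[50,47,50],12,1⟩) (.leaf ⟨51,[49,48,46,49,51,49,46,48,49,51,49,46,48,49],23,5⟩)))) (.node (.node (.node (.leaf ⟨46,[51,46,51],17,3⟩) (.leaf ⟨51,[47,51,47,48],19,0⟩)) (.node (.leaf ⟨47,[46,47,46],3,2⟩) (.leaf ⟨49,[52,50,52,48,50,49,51,49,48,52,49,51,49,48,52,49,51],34,8⟩)))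 (.node (.node (.leaf ⟨49,[48,49,48,49,48],8,4⟩) (.leaf ⟨47,[46,47,46],3,0⟩)) (.node (.leaf ⟨52,[51,52,51],30,2⟩) (.leaf ⟨53,[52,53,52,53,49,52,53,46,47,50,49,50,52,49,46,50,52,53,52,49],42,3⟩))))) (.node (.node (.node (.node (.leaf ⟨51,[51],16,1⟩) (.leaf ⟨51,[53,51,53],38,1⟩)) (.node (.leaf ⟨51,[50,51,48,50],20,0⟩) (.leaf ⟨49,[51,49,51,48,49,51,49,48,51],21,4⟩))) (.node (.node (.leaf ⟨51,[48,51,48],18,2⟩) (.leaf ⟨51,[49,50,49,51,49,51,49,50,49,51,47,49,48,50,49],24,0⟩)) (.node (.leaf ⟨48,[49,48,49,48,49],8,3⟩) (.leaf ⟨50,[49,51,49,51,49,50,49,51,47,49,48,50,49,51,49],24,2⟩)))) (.node (.node (.node (.leaf ⟨46,[52,46,52],27,3⟩) (.leaf ⟨52,[47,49,52,49,52,49],31,4⟩)) (.node (.leaf ⟨47,[51,47,48,51],19,1⟩) (.leaf ⟨46,[52,46,52],27,1⟩))) (.node (.node (.leaf ⟨51,[53,51,53],38,3⟩) (.leaf ⟨49,[48,49,48,49,48],8,0⟩)) (.node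 (.leaf ⟨50,[52,50,52,50,52,50,52],33,5⟩) (.leaf ⟨46,[47,50,49,50,52,49,46,50,52,53,52,49,53,52,53,52,53,49,52,53],42,11⟩))))))) (.node (.node (.node (.node (.node (.node (.leaf ⟨52,[52],26,1⟩) (.leaf ⟨50,[48,50,48],13,2⟩)) (.node (.leaf ⟨50,[51,50,51,48],20,4⟩) (.leaf ⟨49,[48,52,49,51,49,52,50,52,48,50,49,51,49,48,52,49,51],34,3⟩))) (.node (.node (.leaf ⟨47,[50,47,50],12,3⟩) (.leaf ⟨49,[46,49,46,47,49,46],9,2⟩)) (.node (.leaf ⟨53,[51,53,51],38,2⟩) (.leaf ⟨49,[47,49,47],7,0⟩)))) (.node (.node (.node (.leaf ⟨46,[50,46,50],11,3⟩) (.leaf ⟨50,[47,50,47],12,2⟩)) (.node (.leaf ⟨47,[49,47,49],7,3⟩) (.leaf ⟨49,[48,52,49,51,49,48,52,49,51,49,52,50,52,48,50,49,51],34,16⟩))) (.node (.node (.leaf ⟨48,[47,48,47],5,3⟩) (.leaf ⟨50,[49,48,50,51,49,51,50,49,51,50,49,51],22,9⟩)) (.node (.leaf ⟨52,[48,52,48],29,2⟩) (.leaf ⟨53,[52,53,49,52,53,46,47,50,49,50,52,49,46,50,52,53,52,49,53,52],42,5⟩)))))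 (.node (.node (.node (.node (.leaf ⟨48,[48],2,1⟩) (.leaf ⟨53,[49,53,49],37,2⟩)) (.node (.leaf ⟨51,[49,51,49,51,48,49,51,49,48],21,3⟩) (.leaf ⟨49,[51,47,49,46,50,49,46,50,49,51,49,50,49,46,49,50],25,7⟩))) (.node (.node (.leaf ⟨51,[48,51,48],18,0⟩) (.leaf ⟨52,[49,52,49,52,47,49],31,0⟩)) (.node (.leaf ⟨49,[46,47,49,46,49,46],9,4⟩) (.leaf ⟨49,[51,49,50,49,51,49,51,49,50,49,51,47,49,48,50],24,15⟩)))) (.node (.node (.node (.leaf ⟨51,[52,51,52],30,3⟩) (.leaf ⟨52,[50,52,50,52,50,52,50],33,4⟩)) (.node (.leaf ⟨47,[48,51,47,51],19,3⟩) (.leaf ⟨52,[53,47,52,53,52,47,53,52,47,53,47],41,11⟩))) (.node (.node (.leaf ⟨49,[47,49,47],7,2⟩) (.leaf ⟨52,[47,52,47],28,2⟩)) (.node (.leaf ⟨49,[50,52,50,49,50,52,50],32,6⟩) (.leaf ⟨49,[50,52,49,46,50,52,53,52,49,53,52,53,52,53,49,52,53,46,47,50],42,14⟩)))))) (.node (.node (.node (.node (.node (.leaf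 ⟨50,[50],10,1⟩) (.leaf ⟨50,[46,50,46],11,0⟩)) (.node (.leaf ⟨51,[48,49,51,49,48,51,49,51,49],21,7⟩) (.leaf ⟨50,[49,50,49,50,49,50,49],14,4⟩))) (.node (.node (.leaf ⟨50,[46,50,46],11,2⟩) (.leaf ⟨49,[48,50,51,49,51,50,49,51,50,49,51,50],22,10⟩)) (.node (.leaf ⟨47,[50,53,46,53,46],39,4⟩) (.leaf ⟨51,[49,46,48,49,51,49,48,46,49,51,49,46,48,49],23,0⟩)))) (.node (.node (.node (.leaf ⟨48,[50,48,50],13,3⟩) (.leaf ⟨49,[53,49,53],37,1⟩)) (.node (.leaf ⟨47,[48,47,48],5,2⟩) (.leaf ⟨47,[53,52,50,52,53,46,47,53,52,50,52,53],40,5⟩))) (.node (.node (.leaf ⟨49,[50,49,50,49,50,49,50],14,5⟩) (.leaf ⟨47,[48,47,48],5,0⟩)) (.node (.leaf ⟨46,[49,46,47,49,46,49],9,3⟩) (.leaf ⟨53,[49,52,53,46,47,50,49,50,52,49,46,50,52,53,52,49,53,52,53,52],42,7⟩))))) (.node (.node (.node (.node (.leaf ⟨47,[47],1,1⟩) (.leaf ⟨46,[47,46,47],3,1⟩)) (.node (.leaf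 ⟨46,[53,46,47,50,53],39,1⟩) (.leaf ⟨50,[49,51,47,49,48,50,49,51,49,50,49,51,49,51,49],24,8⟩))) (.node (.node (.leaf ⟨48,[53,48,53],36,3⟩) (.leaf ⟨52,[51,52,51],30,0⟩)) (.node (.leaf ⟨52,[49,52,47,49,52,49],31,2⟩) (.leaf ⟨47,[49,47,49],7,1⟩)))) (.node (.node (.node (.leaf ⟨48,[52,48,52],29,3⟩) (.leaf ⟨50,[52,50,49,50,52,50,49],32,3⟩)) (.node (.leaf ⟨53,[46,53,46,47,50],39,0⟩) (.leaf ⟨48,[52,48,52],29,1⟩))) (.node (.node (.leaf ⟨51,[46,51,46],17,2⟩) (.leaf ⟨53,[49,53,49],37,0⟩)) (.node (.leaf ⟨49,[46,49,46,49,46,47],9,0⟩) (.leaf ⟨53,[52,49,53,52,53,52,53,49,52,53,46,47,50,49,50,52,49,46,50,52],42,0⟩))))))))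
noncomputable def tc0 : TCL := ⟨[46,47,48,49,50,51,52,53], [46,47,48,49,50,51,52], 120, 28, 0xfff, 12, 0xff,
  fun a x => look 0xfffffff (nth tc0T 0 a) x, fun x => look 0xfffffff tc0d x, tc0r⟩
noncomputable def tc1T : List ℕ := [0,0,0,0,0,0,0,0,0,0,0,0,0,0,0,0,0,0,0,0,0,0,0,0,0,0,0,0,0,0,0,0,0,0,0,0,0,0,0,0,0,0,0,0,0,0,tc1t46,tc1t47,tc1t48,tc1t49,tc1t50,tc1t51,tc1t52]
noncomputable def tc1r : Tr Rule := (.node (.node (.node (.node (.node (.node (.node (.leaf ⟨52,[52],26,1⟩) (.leaf ⟨48,[49,48,49,48,49],8,5⟩)) (.leaf ⟨51,[48,50,51,50],20,2⟩)) (.node (.node (.leaf ⟨46,[52,46,52],27,3⟩) (.leaf ⟨51,[49,48,52,49,51,49,48,52,49,51,49,52,50,52,48,50,49],34,15⟩)) (.leaf ⟨49,[50,46,48,49,46,48,50,49,46,50,49,48,49,50,46],15,9⟩))) (.node (.node (.node (.leaf ⟨46,[51,46,51],17,3⟩) (.leaf ⟨50,[51,50,51,48],20,4⟩)) (.leaf ⟨52,[51,52,51],30,2⟩))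 (.node (.node (.leaf ⟨47,[47],1,1⟩) (.leaf ⟨49,[51,49,51,48,49,51,49,48,51],21,4⟩)) (.leaf ⟨46,[47,46,47],3,3⟩)))) (.node (.node (.node (.node (.leaf ⟨48,[48],2,1⟩) (.leaf ⟨52,[50,52,50,52,50,52,50],33,4⟩)) (.leaf ⟨51,[50,51,48,50],20,0⟩)) (.node (.node (.leaf ⟨47,[46,47,46],3,2⟩) (.leaf ⟨51,[49,52,50,52,48,50,49,51,49,48,52,49,51,49,48,52,49],34,7⟩)) (.leaf ⟨49,[51,49,51,49,50,49,51,47,49,48,50,49,51,49,50],24,3⟩))) (.node (.node (.node (.leaf ⟨50,[46,50,46],11,2⟩) (.leaf ⟨49,[50,52,50,49,50,52,50],32,2⟩)) (.leaf ⟨52,[50,49,50,52,50,49,50],32,4⟩)) (.node (.leaf ⟨48,[52,48,52],29,3⟩) (.leaf ⟨51,[50,49,48,50,51,49,51,50,49,51,50,49],22,8⟩))))) (.node (.node (.node (.node (.node (.leaf ⟨50,[50],10,1⟩) (.leaf ⟨52,[47,52,47],28,2⟩)) (.leaf ⟨51,[48,49,51,49,48,51,49,51,49],21,7⟩)) (.node (.node (.leaf ⟨47,[49,47,49],7,3⟩)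 (.leaf ⟨49,[48,52,49,51,49,48,52,49,51,49,52,50,52,48,50,49,51],34,16⟩)) (.leaf ⟨49,[50,49,51,47,49,48,50,49,51,49,50,49,51,49,51],24,7⟩))) (.node (.node (.node (.leaf ⟨48,[51,48,51],18,3⟩) (.leaf ⟨51,[46,51,46],17,2⟩)) (.leaf ⟨49,[52,49,52,49,52,47],31,6⟩)) (.node (.leaf ⟨48,[49,48,49,48,49],8,3⟩) (.leaf ⟨49,[46,49,46,49,46,47],9,0⟩)))) (.node (.node (.node (.node (.leaf ⟨46,[48,46,48],4,3⟩) (.leaf ⟨50,[49,50,52,50,49,50,52],32,1⟩)) (.leaf ⟨52,[46,52,46],27,2⟩)) (.node (.node (.leaf ⟨47,[48,51,47,51],19,3⟩) (.leaf ⟨48,[52,49,51,49,52,50,52,48,50,49,51,49,48,52,49,51,49],34,4⟩)) (.leaf ⟨46,[49,50,49,51,47,49,46,50,49,46,50,49,51,49,50,49],25,4⟩))) (.node (.node (.node (.leaf ⟨51,[48,51,48],18,0⟩) (.leaf ⟨49,[51,49,52,50,52,48,50,49,51,49,48,52,49,51,49,48,52],34,6⟩)) (.leaf ⟨46,[49,46,49,46,47,49],9,1⟩)) (.node (.leaf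 ⟨46,[49,46,47,49,46,49],9,3⟩) (.leaf ⟨52,[51,52,51],30,0⟩)))))) (.node (.node (.node (.node (.node (.node (.leaf ⟨49,[49],6,1⟩) (.leaf ⟨52,[48,52,48],29,0⟩)) (.leaf ⟨51,[49,51,48,49,51,49,48,51,49],21,5⟩)) (.node (.node (.leaf ⟨47,[52,47,52],28,3⟩) (.leaf ⟨49,[51,49,48,52,49,51,49,48,52,49,51,49,52,50,52,48,50],34,14⟩)) (.leaf ⟨48,[49,50,46,49,50,46,48,49,46,48,50,49,46,50,49],15,5⟩))) (.node (.node (.node (.leaf ⟨48,[50,48,50],13,3⟩) (.leaf ⟨47,[50,47,50],12,1⟩)) (.leaf ⟨49,[52,47,49,52,49,52],31,3⟩)) (.node (.leaf ⟨49,[46,49,46,47,49,46],9,2⟩) (.leaf ⟨49,[46,47,49,46,49,46],9,4⟩)))) (.node (.node (.node (.node (.leaf ⟨51,[51],16,1⟩) (.leaf ⟨50,[52,50,49,50,52,50,49],32,3⟩)) (.leaf ⟨52,[47,49,52,49,52,49],31,4⟩)) (.node (.node (.leaf ⟨47,[48,47,48],5,2⟩) (.leaf ⟨51,[49,48,52,49,51,49,52,50,52,48,50,49,51,49,48,52,49],34,2⟩))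 (.leaf ⟨51,[47,49,46,50,49,46,50,49,51,49,50,49,46,49,50,49],25,8⟩))) (.node (.node (.node (.leaf ⟨48,[50,48,50],13,1⟩) (.leaf ⟨50,[52,48,50,49,51,49,48,52,49,51,49,48,52,49,51,49,52],34,10⟩)) (.leaf ⟨49,[51,50,49,48,50,51,49,51,50,49,51,50],22,7⟩)) (.node (.leaf ⟨49,[48,49,48,49,48],8,4⟩) (.leaf ⟨51,[49,51,50,49,51,50,49,51,50,49,48,50],22,0⟩))))) (.node (.node (.node (.node (.node (.leaf ⟨46,[46],0,1⟩) (.leaf ⟨50,[52,50,52,50,52,50,52],33,5⟩)) (.leaf ⟨51,[49,51,49,51,48,49,51,49,48],21,3⟩)) (.node (.node (.leaf ⟨47,[50,47,50],12,3⟩) (.leaf ⟨52,[49,51,49,48,52,49,51,49,52,50,52,48,50,49,51,49,48],34,0⟩)) (.leaf ⟨48,[50,49,51,49,50,49,51,49,51,49,50,49,51,47,49],24,13⟩))) (.node (.node (.node (.leaf ⟨50,[51,48,50,51],20,1⟩) (.leaf ⟨50,[49,50,49,50,49,50,49],14,2⟩)) (.leaf ⟨49,[50,52,50,49,50,52,50],32,6⟩)) (.node (.leaf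 ⟨49,[50,49,50,49,50,49,50],14,5⟩) (.leaf ⟨51,[47,48,51,47],19,2⟩)))) (.node (.node (.node (.node (.leaf ⟨46,[50,46,50],11,3⟩) (.leaf ⟨50,[48,50,48],13,2⟩)) (.leaf ⟨52,[48,52,48],29,2⟩)) (.node (.node (.leaf ⟨47,[51,47,48,51],19,1⟩) (.leaf ⟨50,[49,50,49,50,49,50,49],14,4⟩)) (.leaf ⟨50,[48,50,48],13,0⟩))) (.node (.node (.node (.leaf ⟨51,[48,51,48],18,2⟩) (.leaf ⟨49,[48,52,49,51,49,52,50,52,48,50,49,51,49,48,52,49,51],34,3⟩)) (.leaf ⟨52,[49,52,49,52,47,49],31,0⟩)) (.node (.leaf ⟨51,[52,51,52],30,3⟩) (.leaf ⟨49,[51,47,49,46,50,49,46,50,49,51,49,50,49,46,49,50],25,7⟩)))))))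
noncomputable def tc1 : TCL := ⟨[46,47,48,49,50,51,52], [46,47,48,49,50,51], 63, 24, 0x7ff, 11, 0x7f,
  fun a x => look 0xffffff (nth tc1T 0 a) x, fun x => look 0xffffff tc1d x, tc1r⟩
noncomputable def tc2T : List ℕ := [0,0,0,0,0,0,0,0,0,0,0,0,0,0,0,0,0,0,0,0,0,0,0,0,0,0,0,0,0,0,0,0,0,0,0,0,0,0,0,0,0,0,0,0,0,0,tc2t46,tc2t47,tc2t48,tc2t49,tc2t50,tc2t51]
noncomputable def tc2r : Tr Rule := (.node (.node (.node (.node (.node (.node (.leaf ⟨51,[51],16,1⟩) (.leaf ⟨51,[49,46,48,49,51,49,46,48,49,51,49,48,46,49],23,10⟩)) (.node (.leaf ⟨47,[51,47,48,51],19,1⟩) (.leaf ⟨51,[48,51,48],18,2⟩))) (.node (.node (.leaf ⟨46,[51,46,51],17,3⟩) (.leaf ⟨50,[49,51,49,50,49,46,49,50,49,51,47,49,46,50,49,46],25,15⟩)) (.leaf ⟨50,[51,48,50,51],20,1⟩))) (.node (.node (.node (.leaf ⟨50,[50],10,1⟩) (.leaf ⟨48,[50,49,51,49,50,49,51,49,51,49,50,49,51,47,49],24,13⟩))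 (.leaf ⟨46,[49,46,47,49,46,49],9,3⟩)) (.node (.node (.leaf ⟨47,[49,47,49],7,3⟩) (.leaf ⟨51,[50,49,48,50,51,49,51,50,49,51,50,49],22,8⟩)) (.leaf ⟨49,[51,48,49,51,49,48,51,49,51],21,6⟩)))) (.node (.node (.node (.node (.leaf ⟨46,[46],0,1⟩) (.leaf ⟨49,[51,49,50,49,51,47,49,48,50,49,51,49,50,49,51],24,5⟩)) (.leaf ⟨49,[46,49,46,47,49,46],9,2⟩)) (.node (.node (.leaf ⟨49,[48,49,48,49,48],8,4⟩) (.leaf ⟨50,[49,51,47,49,46,50,49,46,50,49,51,49,50,49,46,49],25,6⟩)) (.leaf ⟨47,[50,47,50],12,1⟩))) (.node (.node (.node (.leaf ⟨46,[50,46,50],11,3⟩) (.leaf ⟨46,[49,50,49,51,47,49,46,50,49,46,50,49,51,49,50,49],25,4⟩)) (.leaf ⟨48,[50,51,50,51],20,3⟩)) (.node (.node (.leaf ⟨47,[48,47,48],5,2⟩) (.leaf ⟨51,[48,49,51,49,48,51,49,51,49],21,7⟩)) (.leaf ⟨46,[49,46,49,46,47,49],9,1⟩))))) (.node (.node (.node (.node (.node (.leaf ⟨49,[49],6,1⟩)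 (.leaf ⟨49,[48,50,49,51,49,50,49,51,49,51,49,50,49,51,47],24,12⟩)) (.leaf ⟨47,[47],1,1⟩)) (.node (.node (.leaf ⟨48,[51,48,51],18,3⟩) (.leaf ⟨50,[49,46,49,50,49,51,47,49,46,50,49,46,50,49,51,49],25,2⟩)) (.leaf ⟨51,[50,51,48,50],20,0⟩))) (.node (.node (.node (.leaf ⟨46,[48,46,48],4,3⟩) (.leaf ⟨49,[46,50,49,51,49,50,49,46,49,50,49,51,47,49,46,50],25,13⟩)) (.leaf ⟨50,[51,50,51,48],20,4⟩)) (.node (.node (.leaf ⟨47,[46,47,46],3,2⟩) (.leaf ⟨51,[49,51,48,49,51,49,48,51,49],21,5⟩)) (.leaf ⟨49,[51,49,51,48,49,51,49,48,51],21,4⟩)))) (.node (.node (.node (.node (.leaf ⟨48,[48],2,1⟩) (.leaf ⟨50,[49,51,47,49,48,50,49,51,49,50,49,51,49,51,49],24,8⟩)) (.leaf ⟨48,[49,48,49,48,49],8,3⟩)) (.node (.node (.leaf ⟨47,[48,51,47,51],19,3⟩) (.leaf ⟨50,[48,50,48],13,2⟩)) (.leaf ⟨50,[49,50,49,50,49,50,49],14,4⟩))) (.node (.node (.node (.leaf ⟨48,[50,48,50],13,3⟩)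 (.leaf ⟨50,[49,46,50,49,51,49,50,49,46,49,50,49,51,47,49,46],25,12⟩)) (.leaf ⟨51,[48,50,51,50],20,2⟩)) (.node (.node (.leaf ⟨47,[50,47,50],12,3⟩) (.leaf ⟨51,[49,51,49,51,48,49,51,49,48],21,3⟩)) (.leaf ⟨49,[51,50,49,48,50,51,49,51,50,49,51,50],22,7⟩))))))
noncomputable def tc2 : TCL := ⟨[46,47,48,49,50,51], [46,47,48,49,50], 30, 20, 0x3ff, 10, 0x3f,
  fun a x => look 0xfffff (nth tc2T 0 a) x, fun x => look 0xfffff tc2d x, tc2r⟩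
noncomputable def tc3T : List ℕ := [0,0,0,0,0,0,0,0,0,0,0,0,0,0,0,0,0,0,0,0,0,0,0,0,0,0,0,0,0,0,0,0,0,0,0,0,0,0,0,0,0,0,0,0,0,0,tc3t46,tc3t47,tc3t48,tc3t49,tc3t50]
noncomputable def tc3r : Tr Rule := (.node (.node (.node (.node (.node (.leaf ⟨50,[50],10,1⟩) (.leaf ⟨49,[50,46,48,49,46,48,50,49,46,50,49,48,49,50,46],15,9⟩)) (.leaf ⟨47,[46,47,46],3,2⟩)) (.node (.leaf ⟨46,[48,46,48],4,3⟩) (.leaf ⟨48,[50,48,50],13,3⟩))) (.node (.node (.leaf ⟨46,[46],0,1⟩) (.leaf ⟨49,[46,49,46,47,49,46],9,2⟩)) (.node (.leaf ⟨47,[50,47,50],12,3⟩) (.leaf ⟨46,[49,46,47,49,46,49],9,3⟩)))) (.node (.node (.node (.node (.leaf ⟨49,[49],6,1⟩) (.leaf ⟨48,[49,50,46,49,50,46,48,49,46,48,50,49,46,50,49],15,5⟩)) (.leaf ⟨47,[48,47,48],5,2⟩)) (.node (.leaf ⟨46,[50,46,50],11,3⟩) (.leaf ⟨49,[48,49,48,49,48],8,4⟩))) (.node (.node (.leaf ⟨48,[48],2,1⟩) (.leaf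 ⟨48,[49,48,49,48,49],8,3⟩)) (.node (.leaf ⟨47,[49,47,49],7,3⟩) (.leaf ⟨49,[50,49,50,49,50,49,50],14,5⟩)))))
noncomputable def tc3 : TCL := ⟨[46,47,48,49,50], [46,47,48,49], 16, 20, 0x1ff, 9, 0x1f,
  fun a x => look 0xfffff (nth tc3T 0 a) x, fun x => look 0xfffff tc3d x, tc3r⟩
noncomputable def tc4T : List ℕ := [0,0,0,0,0,0,0,0,0,0,0,0,0,0,0,0,0,0,0,0,0,0,0,0,0,0,0,0,0,0,0,0,0,0,0,0,0,0,0,0,0,0,0,0,0,0,tc4t46,tc4t47,tc4t48,tc4t49]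
noncomputable def tc4r : Tr Rule := (.node (.node (.node (.node (.leaf ⟨49,[49],6,1⟩) (.leaf ⟨49,[46,47,49,46,49,46],9,4⟩)) (.leaf ⟨47,[49,47,49],7,3⟩)) (.node (.node (.leaf ⟨48,[48],2,1⟩) (.leaf ⟨48,[49,48,49,48,49],8,3⟩)) (.leaf ⟨47,[48,47,48],5,2⟩))) (.node (.node (.node (.leaf ⟨46,[46],0,1⟩) (.leaf ⟨46,[49,46,47,49,46,49],9,3⟩)) (.leaf ⟨47,[46,47,46],3,2⟩)) (.node (.leaf ⟨46,[48,46,48],4,3⟩) (.leaf ⟨49,[48,49,48,49,48],8,4⟩))))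
noncomputable def tc4 : TCL := ⟨[46,47,48,49], [46,47,48], 6, 16, 0x7f, 7, 0xf,
  fun a x => look 0xffff (nth tc4T 0 a) x, fun x => look 0xffff tc4d x, tc4r⟩
noncomputable def tc5T : List ℕ := [0,0,0,0,0,0,0,0,0,0,0,0,0,0,0,0,0,0,0,0,0,0,0,0,0,0,0,0,0,0,0,0,0,0,0,0,0,0,0,0,0,0,0,0,0,0,tc5t46,tc5t47,tc5t48]
noncomputable def tc5r : Tr Rule := (.node (.node (.node (.leaf ⟨47,[47],1,1⟩) (.leaf ⟨47,[48,47,48],5,2⟩)) (.leaf ⟨46,[47,46,47],3,3⟩)) (.node (.leaf ⟨48,[48],2,1⟩) (.leaf ⟨46,[48,46,48],4,3⟩)))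
noncomputable def tc5 : TCL := ⟨[46,47,48], [46], 4, 16, 0x7f, 7, 0x7,
  fun a x => look 0xffff (nth tc5T 0 a) x, fun x => look 0xffff tc5d x, tc5r⟩
noncomputable def tc6T : List ℕ := [0,0,0,0,0,0,0,0,0,0,0,0,0,0,0,0,0,0,0,0,0,0,0,0,0,0,0,0,0,0,0,0,0,0,0,0,0,0,0,0,0,0,0,0,0,0,tc6t46]
noncomputable def tc6r : Tr Rule := (.leaf ⟨46,[46],0,1⟩)
noncomputable def tc6 : TCL := ⟨[46], [], 2, 16, 0x3f, 6, 0x3,
  fun a x => look 0xffff (nth tc6T 0 a) x, fun x => look 0xffff tc6d x, tc6r⟩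
noncomputable def tc : List TCL := [tc0, tc1, tc2, tc3, tc4, tc5, tc6]
noncomputable def inW : List (List ℕ) := [[53,50,49,51,49,52,53,52,50,51,49,52,48,46,49,50,48,46,49,46],
  [53,50,49,48,46,49,52,53,52,50,52,50,51,49,51,50,48,46,49,50,49,47,46],
  [52,47,53,51,49,52,53,50,51,49,52,50,46,49,51,50,49,48,46,49,50,48,49,48,47,46],
  [53,50,48,49,52,53,48,49,52,48,49,51,48,46,49,51,50,48,49,50,49,48,46,49,48]]
noncomputable def tcS : List ℕ := [46,47,48,49,50,51,52,53]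

end Cfsg.Agent.CG.O8p2
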